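import Mathlib

set_option autoImplicit false
set_option maxRecDepth 100000

namespace Cfsg.Agent.Lib.Helper11.WD4c0

noncomputable def fc0_0 (i : ℕ) : ℕ := (nat_lit 0x170002a20000150002e20000170002c30000160002e30000160002620000130002c20000150002230000110002a30000140002430000120002830000130001c300000e0002630000110001c200000e00022200001000016300000b00020300000f00014100000a0001e100000d0001030000080001a300000c0000e10000070001810000090000c20000060001220000050000610000030000a10000140002e10000170002810000120002c10000160002410000100002a100001500020100000f0002820000140001e200000d0002610000130001a100000c00024200001200018200000b00022100001100016100000a0002020000100001420000090001e300000f0001230000080001c100000e0001010000070001a200000d0000e200000600018300000c0000c300000500016200000b0000a200000400014300000a0000830000040001210000090000810000030001020000080000620000020000e30000070000430000020000c10000060000410000010000a3000005000023000001000082000004000022000000000063000003000003000000000042000002000002000000000021000001000001)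
noncomputable def sc0_0 (i : ℕ) : ℕ := (nat_lit 0x40000000400000004000000040000000400000004000000040000000400000004000000040000000400000004000000040000000400000004000000040000000400000004000000040000000400000004000000040000000400000004000000040000000400000004000000040000000400000004000000040000000400000004000000040000000400000004000000040000000400000004000000040000000400000004000000040000000400000004000000040000000400000004000000040000000400000004000000040000000400000004000000040000000400000004000000040000000400000004000000040000000400000004000000040000000400000004000000040000000400000004000000040000000400000004000000040000000400000004000000040000000400000004000000040000000400000004000000040000000400000004000000040000000400000004000000040000000400000004000000040000000400001900001f00000e00002600001c000500000000170000040000180003000300001700001f00000e00002800001c0005000000001700000600001e0003000300001700002100000c00002600001a000500020000170000060000200003000300001900002500000a00002a00001e0005000000001900002500003100002e000022000500020000190000250000220003000100001b00002700003100002e0000240005000200001b0000270000240003000100001f00002900002f00002c0000240005000000002500002d000028000300010000ffff0000ffff0000ffff0000ffff0000ffff0000ffff0000ffff0000ffff0000ffff0000ffff0000ffff0000ffff0000ffff0000ffff0000ffff0000ffff0000ffff0000ffff0000ffff0000ffff0000ffff0000ffff0000ffff)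
noncomputable def nc0_0 (i : ℕ) : ℕ := (nat_lit 0x1700001600001500001400001300001200001100001000000f00000e00000d00000c00000b00000a000009000008000007000006000005000004000003000002000001000000)
noncomputable def cc0_0 (i : ℕ) : ℕ := (nat_lit 0x1600004500001500004700001400002c00001700004400001300004300001200002a00001100004100001700004600001000002800001200003f00000f00002600001700002d00000e00003d00001600004200000d00002400001400003e00000c00002200001600002b00001500004000000e00003b00000b00002000000b00003900000a00001e00001500002900000900001c00001400002700000a00003700001300003c00001100003a00000800001a00000800003500000700001800001300002500000600001600001200002300000700003300001000003800000500001400001100002100000400001200001000001f00000f00003600000f00001d00000600003100000400001000000d00003400000300000e00000e00001b00000200000c00000d00001900000c00003200000c00001700000900003000000200000a00000100000800000b00001500000300002f00000a00001300000100000600000900001100000000000400000800000f00000500002e00000700000d00000000000200000600000b000005000009000004000007000000000000000003000005000002000003000001000001)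

end Cfsg.Agent.Lib.Helper11.WD4c0
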